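import Mathlib
import Cfsg.Agent.Helper11.SzMultA

/-!
# Generic tools for stem extensions: abelian preimages of Sylow subgroups kill the kernel

* `kills_of_comm`: transfer into the preimage of a subgroup of index prime to `r` whose preimage is
  commutative kills the kernel elements of order `r`.
* `kills_of_cyclic`: the case of a cyclic subgroup.
* `lifts_commute`: lifts to a central extension of the `7` conjugates `x ^ i * t * x ^ (-i)` of an
  involution `t` under an element `x` of order `7`, generating an elementary abelian group of order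
  `8` on which `x` acts irreducibly, commute pairwise.
-/

set_option autoImplicit false

namespace Cfsg.Agent.Helper17.J1Mult

open scoped commutatorElement
open Cfsg.Agent.Helper11.SzMult

theorem kills_of_comm {Γ G : Type*} [Group Γ] [Finite Γ] [Group G] (σ : Γ →* G)
    (hσ : Function.Surjective σ) (hK : σ.ker ≤ Subgroup.center Γ) (r : ℕ) [hr : Fact r.Prime]
    (R : Subgroup G) (hR : ¬ r ∣ R.index)
    (hcomm : ∀ x y : Γ, σ x ∈ R → σ y ∈ R → x * y = y * x)
    (a : Γ) (ha : a ∈ σ.ker) (hac : a ∈ commutator Γ) (har : a ^ r = 1) : a = 1 := by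
  classical
  set H : Subgroup Γ := R.comap σ with hH
  have haH : a ∈ H := by
    rw [hH, Subgroup.mem_comap, MonoidHom.mem_ker.mp ha]
    exact Subgroup.one_mem _
  have htr := pow_index_mem_commutator H a (hK ha) hac haH
  have hbot : commutator ↥H ≤ ⊥ := by
    rw [commutator_eq_closure, Subgroup.closure_le]
    rintro _ ⟨x, y, rfl⟩
    rw [SetLike.mem_coe, Subgroup.mem_bot, commutatorElement_eq_one_iff_commute]
    exact Subtype.ext (hcomm x y x.2 y.2)
  have h1 := hbot htr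
  rw [Subgroup.mem_bot] at h1
  have h2 : a ^ H.index = 1 := by
    have := congrArg Subtype.val h1
    simpa using this
  by_contra hne
  have ho : orderOf a = r := by
    have hd : orderOf a ∣ r := orderOf_dvd_of_pow_eq_one har
    rcases (Nat.dvd_prime hr.out).mp hd with h | h
    · exact absurd (orderOf_eq_one_iff.mp h) hne
    · exact h
  have hd : r ∣ H.index := by
    rw [← ho]; exact orderOf_dvd_of_pow_eq_one h2
  rw [hH, Subgroup.index_comap_of_surjective _ hσ] at hd
  exact hR hd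

theorem kills_of_cyclic {Γ G : Type*} [Group Γ] [Finite Γ] [Group G] (σ : Γ →* G)
    (hσ : Function.Surjective σ) (hK : σ.ker ≤ Subgroup.center Γ) (r : ℕ) [hr : Fact r.Prime]
    (R : Subgroup G) (hR : ¬ r ∣ R.index) (hcyc : IsCyclic R)
    (a : Γ) (ha : a ∈ σ.ker) (hac : a ∈ commutator Γ) (har : a ^ r = 1) : a = 1 := by
  apply kills_of_comm σ hσ hK r R hR ?_ a ha hac har
  intro x y hx hy
  let H : Subgroup Γ := R.comap σ
  let f : ↥H →* ↥R := (σ.comp H.subtype).codRestrict R (fun x => x.2)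
  have hker : f.ker ≤ Subgroup.center ↥H := by
    intro z hz
    rw [MonoidHom.mem_ker] at hz
    have hz' : σ (z : Γ) = 1 := congrArg Subtype.val hz
    have hc := hK (MonoidHom.mem_ker.mpr hz')
    rw [Subgroup.mem_center_iff] at hc ⊢
    intro g
    exact Subtype.ext (hc g)
  have hcomm := MonoidHom.isMulCommutative_of_isCyclic_of_ker_le_center f hker
  have := mul_comm' (⟨x, hx⟩ : H) ⟨y, hy⟩
  exact congrArg Subtype.val this

/-- the conjugate of `t` by `x ^ i` -/
def U {M : Type*} [Group M] (x t : M) (i : ℕ) : M := x ^ i * t * (x ^ i)⁻¹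

theorem map_U {M N : Type*} [Group M] [Group N] (f : M →* N) (x t : M) (i : ℕ) :
    f (U x t i) = U (f x) (f t) i := by
  simp [U]

theorem U_add {M : Type*} [Group M] (x t : M) (i k : ℕ) :
    U x t (i + k) = x ^ k * U x t i * (x ^ k)⁻¹ := by
  unfold U
  rw [add_comm, pow_add]; group

theorem U_mod {M : Type*} [Group M] (x t : M) (h7 : x ^ 7 = 1) (i : ℕ) :
    U x t i = U x t (i % 7) := by
  unfold U
  rw [pow_eq_pow_mod i h7]

section lifts

variable {Γ G : Type*} [Group Γ] [Group G] (σ : Γ →* G) (hK : σ.ker ≤ Subgroup.center Γ)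
  (X T : Γ) (h7 : σ X ^ 7 = 1) (h2 : σ T ^ 2 = 1)
  (hcomm : ∀ i j : ℕ, i < 7 → j < 7 →
    U (σ X) (σ T) i * U (σ X) (σ T) j = U (σ X) (σ T) j * U (σ X) (σ T) i)
  (hrel : U (σ X) (σ T) 0 * U (σ X) (σ T) 1 * U (σ X) (σ T) 5 = 1)

/-- the commutator of two lifted conjugates -/
def bb (i j : ℕ) : Γ := ⁅U X T i, U X T j⁆

include h7 hcomm in
theorem hcomm_all (i j : ℕ) :
    U (σ X) (σ T) i * U (σ X) (σ T) j = U (σ X) (σ T) j * U (σ X) (σ T) i := by
  rw [U_mod _ _ h7 i, U_mod _ _ h7 j]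
  exact hcomm _ _ (Nat.mod_lt _ (by norm_num)) (Nat.mod_lt _ (by norm_num))

include hK h7 hcomm in
theorem bb_central (i j : ℕ) : bb X T i j ∈ Subgroup.center Γ := by
  apply commute_of_map_commute σ hK
  rw [map_U, map_U]
  exact hcomm_all σ X T h7 hcomm i j

include hK h7 hcomm in
theorem bb_shift_one (i j : ℕ) : bb X T (i + 1) (j + 1) = bb X T i j := by
  have hc := bb_central σ hK X T h7 hcomm i j
  unfold bb at hc ⊢
  rw [U_add X T i 1, U_add X T j 1, pow_one]
  have e : ⁅X * U X T i * X⁻¹, X * U X T j * X⁻¹⁆ = X * ⁅U X T i, U X T j⁆ * X⁻¹ := by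
    simp only [commutatorElement_def]; group
  rw [e, Subgroup.mem_center_iff.1 hc X, mul_inv_cancel_right]

include hK h7 hcomm in
theorem bb_shift (i j k : ℕ) : bb X T (i + k) (j + k) = bb X T i j := by
  induction k with
  | zero => rfl
  | succ k ih => rw [← add_assoc, ← add_assoc, bb_shift_one σ hK X T h7 hcomm, ih]

theorem bb_self (i : ℕ) : bb X T i i = 1 := commutatorElement_self _

theorem bb_symm (i j : ℕ) : bb X T j i = (bb X T i j)⁻¹ := (commutatorElement_inv _ _).symm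

include hK h7 h2 hcomm in
theorem bb_sq (i j : ℕ) : bb X T i j * bb X T i j = 1 := by
  have hc := bb_central σ hK X T h7 hcomm i j
  have hsq : U X T j * U X T j ∈ Subgroup.center Γ := by
    apply hK
    rw [MonoidHom.mem_ker, map_mul, map_U]
    unfold U
    have : σ T * σ T = 1 := by rw [← pow_two]; exact h2
    calc σ X ^ j * σ T * (σ X ^ j)⁻¹ * (σ X ^ j * σ T * (σ X ^ j)⁻¹)
        = σ X ^ j * (σ T * σ T) * (σ X ^ j)⁻¹ := by group
      _ = 1 := by rw [this]; group
  have h1 : ⁅U X T i, U X T j * U X T j⁆ = bb X T i j * bb X T i j := by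
    apply comm_mul_right
    exact (Subgroup.mem_center_iff.1 hc _)
  rw [← h1, commutatorElement_eq_one_iff_commute]
  exact (Subgroup.mem_center_iff.1 hsq _)

include hrel in
theorem hrel_all (j : ℕ) :
    U (σ X) (σ T) j * U (σ X) (σ T) (j + 1) * U (σ X) (σ T) (j + 5) = 1 := by
  have e0 : U (σ X) (σ T) j = σ X ^ j * U (σ X) (σ T) 0 * (σ X ^ j)⁻¹ := by
    rw [← U_add, zero_add]
  have e1 : U (σ X) (σ T) (j + 1) = σ X ^ j * U (σ X) (σ T) 1 * (σ X ^ j)⁻¹ := by
    rw [← U_add, add_comm]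
  have e5 : U (σ X) (σ T) (j + 5) = σ X ^ j * U (σ X) (σ T) 5 * (σ X ^ j)⁻¹ := by
    rw [← U_add, add_comm]
  rw [e0, e1, e5]
  calc σ X ^ j * U (σ X) (σ T) 0 * (σ X ^ j)⁻¹ * (σ X ^ j * U (σ X) (σ T) 1 * (σ X ^ j)⁻¹) *
        (σ X ^ j * U (σ X) (σ T) 5 * (σ X ^ j)⁻¹)
      = σ X ^ j * (U (σ X) (σ T) 0 * U (σ X) (σ T) 1 * U (σ X) (σ T) 5) * (σ X ^ j)⁻¹ := by group
    _ = 1 := by rw [hrel]; group

include hK h7 hcomm hrel in
theorem bb_five (i j : ℕ) : bb X T i (j + 5) = (bb X T i j * bb X T i (j + 1))⁻¹ := by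
  have hc1 := bb_central σ hK X T h7 hcomm i (j + 1)
  have hc0 := bb_central σ hK X T h7 hcomm i j
  have hs : σ (U X T (j + 5)) = σ ((U X T j * U X T (j + 1))⁻¹) := by
    rw [map_inv, map_mul, map_U, map_U, map_U]
    exact eq_inv_of_mul_eq_one_right (hrel_all σ X T hrel j)
  have h1 : bb X T i (j + 5) = ⁅U X T i, (U X T j * U X T (j + 1))⁻¹⁆ :=
    comm_congr σ hK rfl hs
  have h2 : ⁅U X T i, U X T j * U X T (j + 1)⁆ = bb X T i j * bb X T i (j + 1) := by
    apply comm_mul_right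
    exact (Subgroup.mem_center_iff.1 hc1 _)
  have hc : ⁅U X T i, U X T j * U X T (j + 1)⁆ ∈ Subgroup.center Γ := by
    rw [h2]; exact Subgroup.mul_mem _ hc0 hc1
  have h3 : ∀ a p : Γ, ⁅a, p⁆ ∈ Subgroup.center Γ → ⁅a, p⁻¹⁆ = ⁅a, p⁆⁻¹ := by
    intro a p hap
    have e : ⁅a, p⁻¹⁆ = p⁻¹ * ⁅a, p⁆⁻¹ * p := by
      simp only [commutatorElement_def]; group
    have hap' := Subgroup.inv_mem _ hap
    rw [e, Subgroup.mem_center_iff.1 hap' p⁻¹, inv_mul_cancel_right]
  rw [h1, h3 _ _ hc, h2]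

include hK h7 in
theorem bb_seven (i j : ℕ) : bb X T i (j + 7) = bb X T i j := by
  apply comm_congr σ hK rfl
  rw [map_U, map_U, U_mod _ _ h7 (j + 7), U_mod _ _ h7 j, Nat.add_mod_right]

include hK h7 h2 hcomm hrel in
theorem bb_zero (k : ℕ) (hk : k < 7) : bb X T 0 k = 1 := by
  -- work in the centre, a commutative group
  let γ : ℕ → Subgroup.center Γ := fun k => ⟨bb X T 0 k, bb_central σ hK X T h7 hcomm 0 k⟩
  have hγ : ∀ k, (γ k : Γ) = bb X T 0 k := fun _ => rfl
  have sq : ∀ k, γ k * γ k = 1 := fun k => Subtype.ext (bb_sq σ hK X T h7 h2 hcomm 0 k)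
  have inv : ∀ k, (γ k)⁻¹ = γ k := fun k => inv_eq_of_mul_eq_one_left (sq k)
  have five : ∀ j, γ (j + 5) = (γ j * γ (j + 1))⁻¹ := fun j =>
    Subtype.ext (bb_five σ hK X T h7 hcomm hrel 0 j)
  have g0 : γ 0 = 1 := Subtype.ext (bb_self X T 0)
  have g7 : γ 7 = 1 := by
    have : γ (0 + 7) = γ 0 := Subtype.ext (bb_seven σ hK X T h7 0 0)
    rw [← g0, ← this]
  have sym : ∀ a c : ℕ, a + c = 7 → γ a = γ c := by
    intro a c hac
    have e1 : bb X T 0 a = bb X T (0 + c) (a + c) := (bb_shift σ hK X T h7 hcomm 0 a c).symm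
    have e2 : bb X T c (0 + 7) = bb X T c 0 := bb_seven σ hK X T h7 c 0
    have e3 : bb X T c 0 = (bb X T 0 c)⁻¹ := bb_symm X T 0 c
    rw [← inv c]
    apply Subtype.ext
    show bb X T 0 a = (bb X T 0 c)⁻¹
    rw [e1, hac, zero_add, ← e3, ← e2, zero_add]
  have s16 : γ 1 = γ 6 := sym 1 6 rfl
  have s25 : γ 2 = γ 5 := sym 2 5 rfl
  have s34 : γ 3 = γ 4 := sym 3 4 rfl
  have f0 : γ 5 = γ 1 := by
    have := five 0
    rw [zero_add, g0, one_mul, inv] at this
    exact this
  have f1 : γ 6 = (γ 1 * γ 2)⁻¹ := five 1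
  have f2 : γ 7 = (γ 2 * γ 3)⁻¹ := five 2
  have e12 : γ 2 = γ 1 := by rw [s25, f0]
  have e1 : γ 1 = 1 := by
    rw [e12, sq, inv_one] at f1
    rw [s16, f1]
  have e2 : γ 2 = 1 := by rw [e12, e1]
  have e3 : γ 3 = 1 := by
    rw [g7, e2, one_mul, inv] at f2
    exact f2.symm
  have e4 : γ 4 = 1 := by rw [← s34, e3]
  have e5 : γ 5 = 1 := by rw [f0, e1]
  have e6 : γ 6 = 1 := by rw [← s16, e1]
  have hall : γ k = 1 := by
    interval_cases k
    · exact g0
    · exact e1
    · exact e2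
    · exact e3
    · exact e4
    · exact e5
    · exact e6
  have := congrArg Subtype.val hall
  exact this

include hK h7 h2 hcomm hrel in
/-- the lifted conjugates commute pairwise -/
theorem lifts_commute (i j : ℕ) (hi : i < 7) (hj : j < 7) :
    U X T i * U X T j = U X T j * U X T i := by
  have key : ∀ i j : ℕ, i ≤ j → j < 7 → bb X T i j = 1 := by
    intro i j hij hj
    obtain ⟨k, rfl⟩ := Nat.exists_eq_add_of_le hij
    have := bb_shift σ hK X T h7 hcomm 0 k i
    rw [zero_add, add_comm k i] at this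
    rw [this]
    exact bb_zero σ hK X T h7 h2 hcomm hrel k (by omega)
  rcases le_total i j with h | h
  · exact (commutatorElement_eq_one_iff_commute.1 (key i j h hj)).eq
  · exact ((commutatorElement_eq_one_iff_commute.1 (key j i h hi)).eq).symm

end lifts

end Cfsg.Agent.Helper17.J1Mult
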