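import Mathlib
import Cfsg.Agent.Helper14.J1E
import Cfsg.Agent.Helper17.J1Mult.A
import Cfsg.Agent.Helper20.DihedralStem
import Cfsg.Prelude.Def_KGroupFacts

/-!
# The Schur multiplier of the Janko matrix group is trivial
-/

set_option autoImplicit false

namespace Cfsg.Agent.Helper17.J1Mult

open scoped commutatorElement
open Cfsg Cfsg.Spor Cfsg.Agent.Helper14.J1 Cfsg.Agent.Helper11.SzMult

/-- an involution of the Sylow 2-subgroup `P8` -/
def wt0 : List Nat := [3, 0, 1, 0]

/-- the generator of order 7; it normalises `P8` -/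
def hx : G0 := ev [0]

def ht : G0 := ev wt0

/-- a word for `hx ^ i * ht * hx ^ (-i)` -/
def cw (i : Nat) : List Nat := List.replicate i 0 ++ wt0 ++ List.replicate i 2

theorem ev_replicate_letter' (a i : Nat) : ev (List.replicate i a) = ev [a] ^ i := by
  induction i with
  | zero => simp [ev_nil]
  | succ i ih =>
    have : List.replicate (i + 1) a = [a] ++ List.replicate i a := by
      simp [List.replicate_succ]
    rw [this, ev_append, ih, pow_succ']

theorem ev_two' : ev [2] = hx⁻¹ := by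
  have : ([2] : List Nat) = invW [0] := rfl
  rw [this, ev_invW]; rfl

theorem ev_cw (i : Nat) : ev (cw i) = U hx ht i := by
  unfold cw U
  rw [ev_append, ev_append, ev_replicate_letter', ev_replicate_letter', ev_two', inv_pow]
  rfl

def commChk : Bool :=
  (List.range 7).all fun i => (List.range 7).all fun j =>
    (evN (cw i ++ cw j)).beq (evN (cw j ++ cw i))

def relChk0 : Bool := (evN (cw 0 ++ cw 1 ++ cw 5)).beq (evN [])

def p8Chk : Bool :=
  Pw.all fun w => w.isEmpty || (List.range 7).any fun i => (evN w).beq (evN (cw i))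

set_option maxRecDepth 1000000 in
set_option maxHeartbeats 0 in
theorem commChk_eq : commChk = true := by decide +kernel

set_option maxRecDepth 1000000 in
theorem relChk0_eq : relChk0 = true := by decide +kernel

set_option maxRecDepth 1000000 in
theorem p8Chk_eq : p8Chk = true := by decide +kernel

theorem hx_pow : hx ^ 7 = 1 := by
  have h : orderOf hx = 7 := orderOf_of_mem_ordTable ([0], 7) (by decide) (by norm_num)
  have h2 := pow_orderOf_eq_one hx
  rwa [h] at h2

set_option maxRecDepth 1000000 in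
theorem ht_sq : ht ^ 2 = 1 := by
  have h : ev (wt0 ++ wt0) = ev [] := ev_eq_of_beq (by decide +kernel)
  rw [pow_two]
  show ev wt0 * ev wt0 = 1
  rw [← ev_append, h, ev_nil]

theorem U_comm (i j : ℕ) (hi : i < 7) (hj : j < 7) :
    U hx ht i * U hx ht j = U hx ht j * U hx ht i := by
  have h := commChk_eq
  unfold commChk at h
  have h1 := List.all_eq_true.1 (List.all_eq_true.1 h i (List.mem_range.2 hi)) j (List.mem_range.2 hj)
  have h2 := ev_eq_of_beq h1
  rw [ev_append, ev_append, ev_cw, ev_cw] at h2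
  exact h2

theorem U_rel : U hx ht 0 * U hx ht 1 * U hx ht 5 = 1 := by
  have h2 := ev_eq_of_beq relChk0_eq
  rw [ev_append, ev_append, ev_cw, ev_cw, ev_cw, ev_nil] at h2
  exact h2

theorem mem_P8_cases {g : G0} (hg : g ∈ P8) : g = 1 ∨ ∃ i, i < 7 ∧ g = U hx ht i := by
  obtain ⟨w, hw, rfl⟩ := mem_P8.1 hg
  have h := p8Chk_eq
  unfold p8Chk at h
  have h1 := List.all_eq_true.1 h w hw
  rw [Bool.or_eq_true] at h1
  rcases h1 with h1 | h1
  · left
    rw [List.isEmpty_iff.1 h1, ev_nil]
  · right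
    obtain ⟨i, hi, h2⟩ := List.any_eq_true.1 h1
    exact ⟨i, List.mem_range.1 hi, by rw [ev_eq_of_beq h2, ev_cw]⟩

theorem P8_index : ¬ 2 ∣ P8.index := by
  have hcard : Nat.card G0 = 175560 := card_eq
  have h := P8.card_mul_index
  rw [card_P8, hcard] at h
  have : P8.index = 21945 := by omega
  rw [this]; norm_num

theorem odd_sq_not_dvd (r : ℕ) (hr : r.Prime) (h2 : r ≠ 2) : ¬ r ^ 2 ∣ 175560 := by
  intro h
  have hc : Nat.Coprime (r ^ 2) 8 := by
    have : Nat.Coprime r 2 := (Nat.coprime_primes hr Nat.prime_two).2 h2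
    have h8 : (8 : ℕ) = 2 ^ 3 := by norm_num
    rw [h8]
    exact Nat.Coprime.pow _ _ this
  have e : (175560 : ℕ) = 8 * 21945 := by norm_num
  rw [e] at h
  have h1 : r ^ 2 ∣ 21945 := hc.dvd_of_dvd_mul_left h
  have h3 : r ∣ 21945 := dvd_trans (dvd_pow_self r (by norm_num)) h1
  have e2 : (21945 : ℕ) = 3 * (5 * (7 * (11 * 19))) := by norm_num
  rw [e2] at h3
  have hp : ∀ q : ℕ, q.Prime → r ∣ q → r = q := fun q hq hd =>
    (Nat.prime_dvd_prime_iff_eq hr hq).1 hd
  rcases (Nat.Prime.dvd_mul hr).1 h3 with h4 | h4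
  · have := hp 3 (by norm_num) h4; subst this; norm_num at h1
  rcases (Nat.Prime.dvd_mul hr).1 h4 with h5 | h5
  · have := hp 5 (by norm_num) h5; subst this; norm_num at h1
  rcases (Nat.Prime.dvd_mul hr).1 h5 with h6 | h6
  · have := hp 7 (by norm_num) h6; subst this; norm_num at h1
  rcases (Nat.Prime.dvd_mul hr).1 h6 with h7 | h7
  · have := hp 11 (by norm_num) h7; subst this; norm_num at h1
  · have := hp 19 (by norm_num) h7; subst this; norm_num at h1

theorem sylow_cyclic (r : ℕ) [hr : Fact r.Prime] (h2 : r ≠ 2) (R : Sylow r G0) :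
    IsCyclic ↥(R : Subgroup G0) := by
  have hcard : Nat.card G0 = 175560 := card_eq
  have hR := Sylow.card_eq_multiplicity R
  rw [hcard] at hR
  have hle : (175560 : ℕ).factorization r ≤ 1 := by
    by_contra hcon
    have : 2 ≤ (175560 : ℕ).factorization r := by omega
    rw [← hr.out.pow_dvd_iff_le_factorization (by norm_num)] at this
    exact odd_sq_not_dvd r hr.out h2 this
  rcases Nat.le_one_iff_eq_zero_or_eq_one.1 hle with h | h
  · rw [h, pow_zero] at hR
    have : Subsingleton ↥(R : Subgroup G0) := (Nat.card_eq_one_iff_unique.1 hR).1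
    exact isCyclic_of_subsingleton
  · rw [h, pow_one] at hR
    exact isCyclic_of_prime_card hR

theorem comm_two {Γ : Type*} [Group Γ] (σ : Γ →* G0) (hσ : Function.Surjective σ)
    (hK : σ.ker ≤ Subgroup.center Γ) (a b : Γ) (ha : σ a ∈ P8) (hb : σ b ∈ P8) :
    a * b = b * a := by
  obtain ⟨X, hX⟩ := hσ hx
  obtain ⟨T, hT⟩ := hσ ht
  have h7 : σ X ^ 7 = 1 := by rw [hX]; exact hx_pow
  have h2 : σ T ^ 2 = 1 := by rw [hT]; exact ht_sq
  have hcomm : ∀ i j : ℕ, i < 7 → j < 7 →
      U (σ X) (σ T) i * U (σ X) (σ T) j = U (σ X) (σ T) j * U (σ X) (σ T) i := by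
    rw [hX, hT]; exact U_comm
  have hrel : U (σ X) (σ T) 0 * U (σ X) (σ T) 1 * U (σ X) (σ T) 5 = 1 := by
    rw [hX, hT]; exact U_rel
  have key := lifts_commute σ hK X T h7 h2 hcomm hrel
  have hcen : ∀ c : Γ, σ c = 1 → ∀ d : Γ, c * d = d * c := by
    intro c hc d
    exact (Subgroup.mem_center_iff.1 (hK (MonoidHom.mem_ker.2 hc)) d).symm
  rcases mem_P8_cases ha with ha1 | ⟨i, hi, hai⟩
  · exact hcen a ha1 b
  rcases mem_P8_cases hb with hb1 | ⟨j, hj, hbj⟩
  · exact (hcen b hb1 a).symm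
  have e : ⁅a, b⁆ = ⁅U X T i, U X T j⁆ := by
    apply comm_congr σ hK
    · rw [hai, map_U, hX, hT]
    · rw [hbj, map_U, hX, hT]
  have e2 : ⁅U X T i, U X T j⁆ = 1 :=
    commutatorElement_eq_one_iff_commute.2 (key i j hi hj)
  rw [e2] at e
  exact (commutatorElement_eq_one_iff_commute.1 e).eq

theorem ker_eq_bot (Γ : Type) [Group Γ] [Finite Γ] (σ : Γ →* G0) (hσ : IsStemExtension σ) :
    σ.ker = ⊥ := by
  classical
  obtain ⟨hsurj, hK, hC⟩ := hσ
  by_contra hne
  have hcard : Nat.card σ.ker ≠ 1 := fun h => hne (Subgroup.card_eq_one.mp h)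
  set r := (Nat.card σ.ker).minFac with hr
  have hrp : Fact r.Prime := ⟨Nat.minFac_prime hcard⟩
  obtain ⟨x, hxo⟩ := exists_prime_orderOf_dvd_card' (G := σ.ker) r (Nat.minFac_dvd _)
  have hxr : (x : Γ) ^ r = 1 := by
    have := pow_orderOf_eq_one x
    rw [hxo] at this
    exact_mod_cast congrArg Subtype.val this
  have hx1 : (x : Γ) ≠ 1 := by
    intro h
    have : x = 1 := Subtype.ext h
    rw [this, orderOf_one] at hxo
    exact hrp.out.one_lt.ne hxo
  apply hx1
  by_cases h2 : r = 2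
  · have hidx : ¬ r ∣ P8.index := by rw [h2]; exact P8_index
    exact kills_of_comm σ hsurj hK r P8 hidx (comm_two σ hsurj hK) x x.2 (hC x.2) hxr
  · let R : Sylow r G0 := Classical.arbitrary _
    exact kills_of_cyclic σ hsurj hK r (R : Subgroup G0) (Sylow.not_dvd_index R)
      (sylow_cyclic r h2 R) x x.2 (hC x.2) hxr

theorem multiplier_trivial : HasCyclicSchurMultiplier G0 1 :=
  Cfsg.Agent.Helper20.hasCyclicSchurMultiplier_one_of_forall_ker
    (fun Γ _ _ σ hσ => ker_eq_bot Γ σ hσ)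

end Cfsg.Agent.Helper17.J1Mult
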